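import Groth.Agent.KFlatLib.Perfect.Top

/-!
# Germs of maps between restrictions
-/

set_option linter.style.haveILetI false
set_option backward.isDefEq.respectTransparency false
set_option backward.isDefEq.respectTransparency.types false

universe u

open CategoryTheory CategoryTheory.Limits AlgebraicGeometry TopologicalSpace

namespace Groth.Agent.ThickPC

open Groth.Agent.KFlatLib

variable {X : Scheme.{u}} {W : X.Opens} {x : X} (hx : x ∈ W) {M N : X.Modules}

/-- A map surjective on germs is surjective on the stalk of the open. -/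
lemma epi_stalk_restrict (φ : M.restrict W.ι ⟶ N.restrict W.ι) (h : Function.Surjective (stalkAt hx φ)) :
    Epi ((DerSch.stalkFunctor (W : Scheme.{u}) ⟨x, hx⟩).map φ) := by
  let R := Scheme.Modules.restrictFunctor W.ι
  let T := DerSch.stalkFunctor (W : Scheme.{u}) ⟨x, hx⟩
  let adj := Scheme.Modules.restrictAdjunction W.ι
  let F := unitW W M ≫ (Scheme.Modules.pushforward W.ι).map φ
  have hφ : φ = R.map F ≫ adj.counit.app (N.restrict W.ι) :=
    ((adj.homEquiv _ _).symm_apply_apply φ).symm.trans (adj.homEquiv_counit ..)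
  haveI := isIso_stalk_unitW hx N
  have hS : Function.Surjective ((DerSch.stalkFunctor X x).map F) := by
    rw [← stalkAt_spec hx φ]
    exact ((ConcreteCategory.isIso_iff_bijective ((DerSch.stalkFunctor X x).map (unitW W N))).1
      inferInstance).2.comp h
  have hT : Function.Surjective (T.map (R.map F)) := by
    let e := Scheme.Modules.restrictStalkNatIso W.ι ⟨x, hx⟩
    let G := Scheme.Modules.toPresheaf X ⋙ TopCat.Presheaf.stalkFunctor Ab.{u} (W.ι ⟨x, hx⟩)
    have h0 : Epi (G.map F) := by
      change Epi ((Scheme.Modules.toPresheaf X ⋙ TopCat.Presheaf.stalkFunctor Ab.{u} x).map F)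
      exact (AddCommGrpCat.epi_iff_surjective _).2 hS
    haveI := h0
    have h1 : Epi ((R ⋙ Scheme.Modules.toPresheaf _ ⋙ TopCat.Presheaf.stalkFunctor Ab.{u} ⟨x, hx⟩).map F) := by
      rw [← NatIso.naturality_2 e F]
      exact epi_comp' inferInstance (epi_comp' h0 inferInstance)
    exact (AddCommGrpCat.epi_iff_surjective _).1 h1
  haveI : IsIso (adj.counit.app (N.restrict W.ι)) := inferInstance
  rw [hφ, Functor.map_comp]
  exact epi_comp' ((ModuleCat.epi_iff_surjective _).2 hT) inferInstance

/-- Zero stalks of restrictions. -/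
lemma isZero_stalk_restrict (h : IsZero ((DerSch.stalkFunctor X x).obj M)) :
    IsZero ((DerSch.stalkFunctor (W : Scheme.{u}) ⟨x, hx⟩).obj (M.restrict W.ι)) := by
  haveI := ModuleCat.subsingleton_of_isZero h
  have e := ((forget Ab.{u}).mapIso ((Scheme.Modules.restrictStalkNatIso W.ι ⟨x, hx⟩).app M)).toEquiv
  haveI : Subsingleton ((forget Ab.{u}).obj ((Scheme.Modules.toPresheaf X ⋙
      TopCat.Presheaf.stalkFunctor Ab.{u} (W.ι ⟨x, hx⟩)).obj M)) :=
    (inferInstance : Subsingleton ((DerSch.stalkFunctor X x).obj M : Type u))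
  haveI : Subsingleton ((DerSch.stalkFunctor (W : Scheme.{u}) ⟨x, hx⟩).obj (M.restrict W.ι) : Type u) :=
    e.subsingleton
  exact ModuleCat.isZero_of_subsingleton _

/-- The stalks of a finite free module are finite. -/
lemma finite_stalk_freeMod (q : ℕ) :
    Module.Finite (X.presheaf.stalk x) ((DerSch.stalkFunctor X x).obj (FlatMod.freeMod X q) : Type u) := by
  let S := DerSch.stalkFunctor X x
  haveI : Module.Finite (X.presheaf.stalk x) (S.obj (Coh.structureModule X) : Type u) :=
    Module.Finite.equiv ((stalkUnitEquiv x).trans ((stalkToPIso x).app _).toLinearEquiv.symm)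
  haveI : Module.Finite (X.presheaf.stalk x)
      (DirectSum (Fin q) fun _ : Fin q => (S.obj (Coh.structureModule X) : Type u)) :=
    Module.Finite.equiv (DirectSum.linearEquivFunOnFintype _ (Fin q) _).symm
  exact Module.Finite.equiv (PreservesCoproduct.iso S (fun _ : Fin q => Coh.structureModule X) ≪≫
    ModuleCat.coprodIsoDirectSum _).toLinearEquiv.symm

/-- A map out of the restricted free module, and the free module of the open. -/
noncomputable def restrictFreeModIso (W : X.Opens) (n : ℕ) :
    (FlatMod.freeMod X n).restrict W.ι ≅ FlatMod.freeMod (W : Scheme.{u}) n :=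
  (Scheme.Modules.restrictFunctorIsoPullback W.ι).app _ ≪≫ pullFreeIso _ _

/-- A module of finite type has finite stalks. -/
lemma finite_stalk_of_isFT' (h : CohB1.IsFT M) (x : X) :
    Module.Finite (X.presheaf.stalk x) ((DerSch.stalkFunctor X x).obj M : Type u) := by
  obtain ⟨W, n, p, hx, hp⟩ := exists_epi_free_of_isFT h x
  let φ := (restrictFreeModIso W n).hom ≫ p
  haveI := finite_stalk_freeMod (X := X) (x := x) n
  refine Module.Finite.of_surjective (stalkAt hx φ).hom ?_
  haveI := isIso_stalk_unitW hx M
  haveI := isIso_stalk_unitW hx (FlatMod.freeMod X n)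
  haveI : Epi φ := epi_comp' inferInstance hp
  have : Epi ((DerSch.stalkFunctor X x).map ((Scheme.Modules.pushforward W.ι).map φ)) := by
    let R := Scheme.Modules.restrictFunctor W.ι
    let adj := Scheme.Modules.restrictAdjunction W.ι
    haveI : Epi (R.map ((Scheme.Modules.pushforward W.ι).map φ)) := by
      haveI : Epi (R.map ((Scheme.Modules.pushforward W.ι).map φ) ≫ adj.counit.app (M.restrict W.ι)) := by
        rw [show R.map ((Scheme.Modules.pushforward W.ι).map φ) ≫ adj.counit.app (M.restrict W.ι) =
          adj.counit.app _ ≫ φ from adj.counit.naturality φ]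
        exact epi_comp' inferInstance inferInstance
      exact (epi_comp_iff_of_isIso _ (adj.counit.app (M.restrict W.ι))).1 inferInstance
    let e := Scheme.Modules.restrictStalkNatIso W.ι ⟨x, hx⟩
    let F := (Scheme.Modules.pushforward W.ι).map φ
    have h1 : Epi ((R ⋙ Scheme.Modules.toPresheaf _ ⋙ TopCat.Presheaf.stalkFunctor Ab.{u} ⟨x, hx⟩).map F) :=
      (AddCommGrpCat.epi_iff_surjective _).2 ((ModuleCat.epi_iff_surjective _).1
        ((DerSch.stalkFunctor (W : Scheme.{u}) ⟨x, hx⟩).map_epi (R.map F)))
    have h2 : Epi ((Scheme.Modules.toPresheaf X ⋙ TopCat.Presheaf.stalkFunctor Ab.{u} (W.ι ⟨x, hx⟩)).map F) := by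
      rw [← NatIso.naturality_1 e F]
      exact epi_comp' inferInstance (epi_comp' h1 inferInstance)
    exact (ModuleCat.epi_iff_surjective _).2 ((AddCommGrpCat.epi_iff_surjective _).1 h2)
  rw [← ModuleCat.epi_iff_surjective]
  unfold stalkAt
  rw [Functor.map_comp]
  exact epi_comp' (epi_comp' (@IsIso.epi_of_iso _ _ _ _ _ (isIso_stalk_unitW hx (FlatMod.freeMod X n))) this)
    inferInstance

/-- A module of finite type vanishes near a point where its stalk does. -/
lemma exists_isZero_restrict (h : CohB1.IsFT M) (x : X) (h0 : IsZero ((DerSch.stalkFunctor X x).obj M)) :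
    ∃ U : X.Opens, x ∈ U ∧ IsZero (M.restrict U.ι) := by
  obtain ⟨W, n, p, hx, hp⟩ := exists_epi_free_of_isFT h x
  let φ := (restrictFreeModIso W n).hom ≫ p
  haveI : Epi φ := epi_comp' inferInstance hp
  obtain ⟨U, hU, hres⟩ := exists_resHom_eq_zero φ hx (h0.eq_of_tgt _ _)
  have l : W ⊓ U ≤ W := inf_le_left
  have hz := hres (W ⊓ U) l inf_le_right
  refine ⟨W ⊓ U, ⟨hx, hU⟩, ?_⟩
  haveI : Epi (resHom l φ) := by
    unfold resHom
    exact epi_comp' inferInstance (epi_comp' inferInstance inferInstance)
  exact IsZero.of_epi_eq_zero (resHom l φ) hz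

end Groth.Agent.ThickPC
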