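import Groth.Agent.ThickPC.Amp
import Groth.Agent.ThickPC.Main

/-!
# Relative perfectness along a thickening of the base
-/

set_option linter.style.haveILetI false
set_option backward.isDefEq.respectTransparency false
set_option backward.isDefEq.respectTransparency.types false

universe u

open CategoryTheory CategoryTheory.Limits AlgebraicGeometry TopologicalSpace

attribute [local instance] HasDerivedCategory.standard

namespace Groth.Agent.ThickPC

open Groth.Agent.KFlatLib

lemma isZero_stalk_of_restrict {X U : Scheme.{u}} (j : U ⟶ X) [IsOpenImmersion j] (u' : U) {M : X.Modules}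
    (h : IsZero (M.restrict j)) : IsZero ((DerSch.stalkFunctor X (j.base u')).obj M) := by
  haveI := ModuleCat.subsingleton_of_isZero ((DerSch.stalkFunctor U u').map_isZero h)
  have e := ((forget Ab.{u}).mapIso ((Scheme.Modules.restrictStalkNatIso j u').app M)).toEquiv
  haveI : Subsingleton ((forget Ab.{u}).obj ((Scheme.Modules.restrictFunctor j ⋙ Scheme.Modules.toPresheaf U ⋙
      TopCat.Presheaf.stalkFunctor Ab.{u} u').obj M)) :=
    (inferInstance : Subsingleton ((DerSch.stalkFunctor U u').obj (M.restrict j) : Type u))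
  haveI : Subsingleton ((DerSch.stalkFunctor X (j.base u')).obj M : Type u) := e.symm.subsingleton
  exact ModuleCat.isZero_of_subsingleton _

/-- Pseudo-coherent objects are bounded above at every point. -/
lemma exists_bound_stalk {X : Scheme.{u}} {n : ℤ} {E : DCoh.D X} (h : LocPC n E) (x : X) :
    ∃ b₀ : ℤ, ∀ m, b₀ < m → IsZero ((DerSch.stalkFunctor X x).obj (DCoh.HD E m)) := by
  obtain ⟨U, j, _, ⟨u', rfl⟩, P, α, hP, hα⟩ := h x
  obtain ⟨a, b, hab⟩ := hP.1
  refine ⟨max b n, fun m hm => isZero_stalk_of_restrict j u' ?_⟩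
  haveI := hα.1 m (by omega)
  exact (((ShortComplex.isZero_homology_of_isZero_X₂ _ (hab m (Or.inr (by omega)))).of_iso
    ((DerivedCategory.homologyFunctorFactors _ m).app P)).of_iso
    (asIso ((DerivedCategory.homologyFunctor _ m).map α)).symm).of_iso (hdRhoIso j E m).symm

/-- `S7232`. -/
theorem relPerfect_of_lpull {X X' Y Y' : Scheme.{u}} {f : X ⟶ Y} {f' : X' ⟶ Y'} {i : X ⟶ X'} {j : Y ⟶ Y'}
    (sq : IsPullback i f f' j) [Flat f'] [IsClosedImmersion j] [Surjective j] (hj : IsNilpotent j.ker)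
    [DCoh.HasLpull i] (E : DCoh.D X') (F₀ : CochainComplex X.Modules ℤ)
    (e₀ : DCoh.toD X F₀ ≅ (DCoh.Lpull i).obj E) (hpc : ∀ m : ℤ, DCoh.IsPseudoCoherentD m (DCoh.toD X F₀))
    (hamp : DerSch.LocFiniteTorAmplitude f F₀) :
    (∀ m : ℤ, DCoh.IsPseudoCoherentD m E) ∧ DerSch.LocFiniteTorAmplitudeD f' E := by
  haveI : IsClosedImmersion i := MorphismProperty.of_isPullback sq.flip ‹_›
  haveI : Surjective i := MorphismProperty.of_isPullback sq.flip ‹_›
  have hjn : StalkNil j := isNilpotent_ker_stalkMap j hj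
  have hin : StalkNil i := fun x => by
    obtain ⟨N, hN⟩ := isNilpotent_ker_baseπ sq hjn x
    refine ⟨N, le_bot_iff.1 ((Ideal.pow_right_mono (ker_stalkMap_le sq x) N).trans ?_)⟩
    rw [← Ideal.map_pow, hN]
    exact le_of_eq Ideal.map_bot
  have hE : ∀ m, LocPC m E := locPC_of_lpull i hin E fun n =>
    ((isPseudoCoherentD_iff n _).1 (hpc n)).of_iso e₀
  refine ⟨fun m => (isPseudoCoherentD_iff m E).2 (hE m), fun F ⟨eF⟩ x' => ?_⟩
  obtain ⟨x, rfl⟩ := i.surjective x'
  obtain ⟨V, a, b, hxV, hV⟩ := hamp x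
  obtain ⟨O, -, rfl⟩ : ∃ O : X'.Opens, True ∧ i ⁻¹ᵁ O = V := by
    obtain ⟨S', hS, hS'⟩ := i.isClosedEmbedding.isInducing.isOpen_iff.1 V.2
    exact ⟨⟨S', hS⟩, trivial, Opens.ext hS'⟩
  refine ⟨O, a, b, hxV, fun z hz => ?_⟩
  obtain ⟨w, rfl⟩ := i.surjective z
  obtain ⟨b₀, hb₀⟩ := exists_bound_stalk (hE 0) (i.base w)
  exact torAmplitudeAt_of_lpull sq hjn E eF e₀ w b₀ hb₀ (hV w hz)

end Groth.Agent.ThickPC
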