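import Groth.Agent.ThickPC.JacRing
import Groth.Agent.RelPCFppf.Scheme
import Groth.Agent.PerfGen7.RelPerfectAffine
import Groth.Agent.PerfGen7.RelTor.Abs

/-!
# Relative tor amplitude near the fibres over a Jacobson ideal
-/

set_option linter.style.haveILetI false
set_option backward.isDefEq.respectTransparency false
set_option backward.isDefEq.respectTransparency.types false

universe u

open CategoryTheory CategoryTheory.Limits AlgebraicGeometry TopologicalSpace

attribute [local instance] HasDerivedCategory.standard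

namespace Groth.Agent.ThickPC

open Groth.Agent.KFlatLib Groth.Agent.H9Misc Groth.Agent.H9Misc.DRingLTensor Groth.Agent.PerfGen7
  Groth.Agent.PerfGen7.RelTor Groth.Agent.H9Misc.DRingTorDescent

/-- Amplitude at a generalisation, read on the stalk. -/
theorem torAmplitudeAt_tilde_of_prime {R A : CommRingCat.{u}} (φ : R ⟶ A) [Algebra R A]
    (hφ : algebraMap R A = φ.hom) (M : Dual.D A)
    (F : CochainComplex (Spec A).Modules ℤ) (eF : DCoh.toD (Spec A) F ≅ (DCoh.tildeD A).obj M)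
    (q : Ideal A) [q.IsPrime] [DRing.HasLBaseChange (algebraMap A (Localization.AtPrime q))] (a b : ℤ)
    (h : DRing.HasTorAmplitudeIn R a b ((DRing.restrictD (algebraMap R (Localization.AtPrime q))).obj
      ((DRing.LBaseChange (algebraMap A (Localization.AtPrime q))).obj M)))
    {C : DRing.Cx A} (hC : IsKF C) (eC : DerivedCategory.Q.obj C ≅ M) (z : Spec A) (hz : z.asIdeal ≤ q) :
    DerSch.HasTorAmplitudeAt (Spec.map φ) a b F z := by
  let eT : DCoh.toD (Spec A) F ≅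
      DCoh.toD (Spec A) (((tilde.functor A).mapHomologicalComplex (ComplexShape.up ℤ)).obj C) :=
    eF ≪≫ (DCoh.tildeD A).mapIso eC.symm ≪≫ (tilde.functor A).mapDerivedCategoryFactors.app C
  refine torAmplitudeAt_congr _ eT.symm ?_
  let Aq := Localization.AtPrime q
  obtain ⟨eq'⟩ := DRingLBase.nonempty_lbase_iso (algebraMap A Aq) hC
  have h' : DRing.HasTorAmplitudeIn R a b
      (DerivedCategory.Q.obj ((resCx (algebraMap R Aq)).obj ((extC' (algebraMap A Aq)).obj C))) :=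
    torAmp_of_iso ((DRing.restrictD _).mapIso ((DRing.LBaseChange _).mapIso eC.symm ≪≫ eq') ≪≫
      (ModuleCat.restrictScalars _).mapDerivedCategoryFactors.app _) h
  letI := (toStalkHom ((Spec.map φ).base z)).toAlgebra
  haveI := TorAmpBC.isLocalization_toStalkHom ((Spec.map φ).base z)
  letI := (toStalkHom z).toAlgebra
  haveI := TorAmpBC.isLocalization_toStalkHom z
  have hu : ∀ s : q.primeCompl, IsUnit ((toStalkHom z) s) := fun s =>
    IsLocalization.map_units ((Spec A).presheaf.stalk z) (⟨s, fun hs => s.2 (hz hs)⟩ : z.asIdeal.primeCompl)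
  let δ : Aq →+* (Spec A).presheaf.stalk z := IsLocalization.lift (M := q.primeCompl) hu
  have hδ : δ.comp (algebraMap A Aq) = toStalkHom z := IsLocalization.lift_comp hu
  haveI : Module.Flat A ((Spec A).presheaf.stalk z) := IsLocalization.flat _ z.asIdeal.primeCompl
  haveI : Module.Flat Aq (resB δ) :=
    (show δ.Flat from LocalFibre.flat_of_comp_localization q.primeCompl δ hδ)
  let eSt : (stalkCx z).obj (((tilde.functor A).mapHomologicalComplex (ComplexShape.up ℤ)).obj C) ≅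
      (extC' (toStalkHom z)).obj C :=
    (NatIso.mapHomologicalComplex (stalkTildeIso z) (ComplexShape.up ℤ)).app C
  refine TorAmpBC.of_res_localization (P := R) ((Spec.map φ).base z).asIdeal.primeCompl
    (torAmp_of_iso (DerivedCategory.Q.mapIso ?_)
      (TorAmpBC.tens_flat (algebraMap R Aq) (resB δ) _ h'))
  refine (resCx _).mapIso (TorAmpBC.extResCxIso δ _ ≪≫ (resCx δ).mapIso (TorAmpBC.extCompIso hδ C).symm ≪≫
    (resCx δ).mapIso eSt.symm) ≪≫ (TorAmpBC.resCompIso rfl _).symm ≪≫ TorAmpBC.resCompIso ?_ _ ≪≫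
    (resCx _).mapIso (RelTor.stalkCxOverIso (Spec.map φ) z _).symm
  refine RingHom.ext fun r => ?_
  show (Spec.map φ).stalkMap z ((Spec R).presheaf.germ ⊤ _ trivial ((Scheme.ΓSpecIso R).inv r)) =
    δ (algebraMap R Aq r)
  rw [Scheme.Hom.germ_stalkMap_apply (Spec.map φ) ⊤ z trivial]
  refine Eq.trans ?_ ((RingHom.congr_fun hδ (algebraMap R A r)).symm.trans
    (congrArg δ (IsScalarTower.algebraMap_apply R A Aq r).symm))
  rw [hφ]
  exact congrArg ((Spec A).presheaf.germ ⊤ z trivial)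
    congr($((Scheme.ΓSpecIso_inv_naturality φ).symm).hom r)

/-- `S7233`. -/
theorem torAmplitude_of_jacobson (R : Type u) [CommRing R] (I : Ideal R) (hI : I ≤ Ideal.jacobson ⊥)
    {X X₀ : Scheme.{u}} (f : X ⟶ Spec (CommRingCat.of R)) [IsProper f] [Flat f] [LocallyOfFinitePresentation f]
    (i : X₀ ⟶ X) (f₀ : X₀ ⟶ Spec (CommRingCat.of (R ⧸ I)))
    (hc : IsPullback i f₀ f (Spec.map (CommRingCat.ofHom (Ideal.Quotient.mk I)))) [DCoh.HasLpull i]
    (E : DCoh.D X) (hpc : ∀ m : ℤ, DCoh.IsPseudoCoherentD m E) (F₀ : CochainComplex X₀.Modules ℤ)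
    (e₀ : DCoh.toD X₀ F₀ ≅ (DCoh.Lpull i).obj E) (hamp : DerSch.LocFiniteTorAmplitude f₀ F₀) :
    DerSch.LocFiniteTorAmplitudeD f E := by
  let j : Spec (CommRingCat.of (R ⧸ I)) ⟶ Spec (CommRingCat.of R) := Spec.map (CommRingCat.ofHom (Ideal.Quotient.mk I))
  haveI : IsClosedImmersion j := IsClosedImmersion.spec_of_surjective _ Ideal.Quotient.mk_surjective
  haveI : IsClosedImmersion i := MorphismProperty.of_isPullback hc.flip ‹_›
  haveI : CompactSpace X := QuasiCompact.compactSpace_of_compactSpace f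
  haveI : CompactSpace X₀ := QuasiCompact.compactSpace_of_compactSpace i
  have hq : DCoh.IsQCohD E := fun l => isQCoh_HD_of_pseudoCoherent (hpc (l - 1)) l (by omega)
  have hloc : ∀ m, LocPC m E := fun m => (isPseudoCoherentD_iff m E).1 (hpc m)
  obtain ⟨a, b, -, hab⟩ := exists_interval_of_isCompact f₀ hamp isCompact_univ
  intro F ⟨eF⟩
  have hV : IsAffineOpen (⊤ : (Spec (CommRingCat.of R)).Opens) := isAffineOpen_top _
  have hV' : IsAffineOpen (⊤ : (Spec (CommRingCat.of (R ⧸ I))).Opens) := isAffineOpen_top _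
  have key : ∀ U : X.affineOpens, ∃ d : ℕ, ∀ y ∈ U.1, ∀ x ∈ U.1, y ⤳ x → x ∈ Set.range i.base →
      DerSch.HasTorAmplitudeAt f (a - d) b F y := by
    rintro ⟨U, hU⟩
    have hUV : U ≤ f ⁻¹ᵁ ⊤ := le_top
    obtain ⟨hU₀, hpo⟩ := exists_affine_square hc hU hV hV' hUV (le_top (α := (Spec (CommRingCat.of (R ⧸ I))).Opens))
    let U₀ : X₀.Opens := i ⁻¹ᵁ U ⊓ f₀ ⁻¹ᵁ ⊤
    let φ := f.appLE ⊤ U hUV
    let β := (i.appLE U U₀ inf_le_left).hom
    letI : Algebra Γ(Spec (CommRingCat.of R), ⊤) Γ(X, U) := φ.hom.toAlgebra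
    haveI : Module.Flat Γ(Spec (CommRingCat.of R), ⊤) Γ(X, U) :=
      HasRingHomProperty.appLE @Flat f ‹_› ⟨⊤, hV⟩ ⟨U, hU⟩ hUV
    haveI : Algebra.FinitePresentation Γ(Spec (CommRingCat.of R), ⊤) Γ(X, U) :=
      HasRingHomProperty.appLE @LocallyOfFinitePresentation f ‹_› ⟨⊤, hV⟩ ⟨U, hU⟩ hUV
    obtain ⟨d, ψ, hψ⟩ := (Algebra.FiniteType.iff_quotient_mvPolynomial''
      (R := Γ(Spec (CommRingCat.of R), ⊤)) (S := Γ(X, U))).1 inferInstance
    refine ⟨d, fun y hy x hx hyx hxi => ?_⟩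
    haveI := isClosedImmersion_toSpecΓ hU
    haveI := isClosedImmersion_toSpecΓ hU₀
    haveI := RelPCFppf.isIso_toSpecΓ' hU
    haveI := RelPCFppf.isIso_toSpecΓ' hU₀
    haveI : DRing.HasLBaseChange β := DRingLBase.hasLBaseChange _
    obtain ⟨M, ⟨e⟩⟩ := exists_tilde_fromSpec hU hq
    have hM : DRing.IsPseudoCoherent' Γ(X, U) M := (DRingPC.pc'_iff M).2 fun m =>
      (S1004.result Γ(X, U) M m).1 ((isPseudoCoherentD_iff m _).2 (((hloc m).restrict hU.fromSpec).of_iso e.symm))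
    obtain ⟨e'⟩ := RelPCFppf.nonempty_tilde_lpull i hU hU₀ inf_le_left M (e ≪≫ (pushToSpecIso hU E).symm)
    have h₀ : DRing.HasTorAmplitudeIn Γ(Spec (CommRingCat.of (R ⧸ I)), ⊤) a b
        ((DRing.restrictD (f₀.appLE ⊤ U₀ inf_le_right).hom).obj ((DRing.LBaseChange β).obj M)) := by
      refine (TorAmpBC.torAmplitude_tilde_iff (f₀.appLE ⊤ U₀ inf_le_right) _ ((rCx hU₀.fromSpec).obj F₀)
        (((rhoQ hU₀.fromSpec).app F₀).symm ≪≫ (rho hU₀.fromSpec).mapIso e₀ ≪≫
          (pushToSpecIso hU₀ _).symm ≪≫ e'.symm)).1 fun z => ?_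
      exact (torAmplitudeAt_chart_iff f₀ hU₀ hV' inf_le_right F₀ a b z).1 (hab _ (Set.mem_univ _))
    -- the point of the special fibre
    obtain ⟨x₀, rfl⟩ := hxi
    obtain ⟨w, hw⟩ := hU₀.range_fromSpec.ge (show x₀ ∈ U₀ from ⟨hx, trivial⟩)
    obtain ⟨zy, hzy⟩ := hU.range_fromSpec.ge hy
    obtain ⟨zx, hzx⟩ := hU.range_fromSpec.ge hx
    have hzw : Spec.map (i.appLE U U₀ inf_le_left) w = zx := hU.fromSpec.isOpenEmbedding.injective (by
      rw [← Scheme.Hom.comp_apply, hU.SpecMap_appLE_fromSpec i hU₀ inf_le_left, Scheme.Hom.comp_apply, hw, hzx])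
    have hle : zy.asIdeal ≤ zx.asIdeal := by
      refine (PrimeSpectrum.le_iff_specializes zy zx).2 ?_
      exact (hU.fromSpec.isOpenEmbedding.isInducing.specializes_iff).1 (by rw [hzy, hzx]; exact hyx)
    have hπ : Function.Surjective (j.appLE ⊤ ⊤ le_top).hom := by
      have := j.app_surjective ⊤ hV
      rwa [Scheme.Hom.app_eq_appLE] at this
    haveI : DRing.HasLBaseChange (algebraMap Γ(X, U) (Localization.AtPrime zx.asIdeal)) :=
      DRingLBase.hasLBaseChange _
    have hker : RingHom.ker (j.appLE ⊤ ⊤ le_top).hom ≤ zx.asIdeal.comap φ.hom := fun r hr => by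
      rw [← hzw]
      show β (φ.hom r) ∈ w.asIdeal
      have hcomm := RingHom.congr_fun (congrArg CommRingCat.Hom.hom hpo.w) r
      change (f₀.appLE ⊤ U₀ inf_le_right).hom ((j.appLE ⊤ ⊤ le_top).hom r) = β (φ.hom r) at hcomm
      rw [← hcomm, RingHom.mem_ker.1 hr, map_zero]
      exact Submodule.zero_mem _
    have hq1 := amp_at_prime_of_reduction (π := (j.appLE ⊤ ⊤ le_top).hom)
      (φ₀ := (f₀.appLE ⊤ U₀ inf_le_right).hom) (β := β) hpo hπ d ψ hψ M hM a b h₀ zx.asIdeal hker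
    obtain ⟨C, bC, hCz, hCf, ⟨eC⟩⟩ := id hM
    rw [← hzy]
    exact (torAmplitudeAt_chart_iff f hU hV hUV F (a - d) b zy).2
      (torAmplitudeAt_tilde_of_prime φ rfl M ((rCx hU.fromSpec).obj F)
        (((rhoQ hU.fromSpec).app F).symm ≪≫ (rho hU.fromSpec).mapIso eF ≪≫ e.symm)
        zx.asIdeal (a - d) b hq1 (DRingFibre.isKF hCf hCz) eC zy hle)
  choose d hd using key
  obtain ⟨t, ht⟩ := isCompact_univ.elim_finite_subcover (fun U : X.affineOpens => (U.1 : Set X))
    (fun U => U.1.2) fun x _ => by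
      obtain ⟨U, hU, hxU, -⟩ := exists_isAffineOpen_mem_and_subset (x := x) (U := (⊤ : X.Opens)) trivial
      exact Set.mem_iUnion.2 ⟨⟨U, hU⟩, hxU⟩
  refine fun x => ⟨⊤, a - (t.sup d : ℕ), b, trivial, fun y _ => ?_⟩
  obtain ⟨x', hx', hcl⟩ := (isClosed_closure (s := {y})).exists_closed_singleton ⟨y, subset_closure rfl⟩
  have hyx : y ⤳ x' := specializes_iff_mem_closure.2 hx'
  obtain ⟨U, hUt, hxU⟩ := Set.mem_iUnion₂.1 (ht (Set.mem_univ x'))
  have hm : (f x').asIdeal.IsMaximal := (PrimeSpectrum.isClosed_singleton_iff_isMaximal _).1 (by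
    have := f.isClosedMap _ hcl
    rwa [Set.image_singleton] at this)
  obtain ⟨s₀, hs₀⟩ : f x' ∈ Set.range j.base := by
    change f x' ∈ Set.range (PrimeSpectrum.comap (Ideal.Quotient.mk I))
    rw [range_comap_of_surjective _ _ Ideal.Quotient.mk_surjective, Ideal.mk_ker]
    exact hI.trans (sInf_le ⟨bot_le, hm⟩)
  obtain ⟨x₀, hx₀, -⟩ := Scheme.Pullback.exists_preimage_pullback (f := f) (g := j) x' s₀ hs₀.symm
  refine torAmplitudeAt_mono f ?_ le_rfl
    (hd U y (U.1.2.stableUnderGeneralization hyx hxU) x' hxU hyx ⟨hc.isoPullback.inv x₀, ?_⟩)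
  · have := Finset.le_sup (f := d) hUt
    omega
  · rw [← Scheme.Hom.comp_apply, hc.isoPullback_inv_fst, hx₀]

end Groth.Agent.ThickPC
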