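import Groth.Agent.ThickPC.Stalk
import Groth.Agent.PerfGen7.RelTor.Stalk
import Groth.Agent.PerfGen7.RelLpullRing
import Groth.Agent.H23.GysinPb

/-!
# Relative tor amplitude along a thickening of the base
-/

set_option linter.style.haveILetI false
set_option backward.isDefEq.respectTransparency false
set_option backward.isDefEq.respectTransparency.types false

universe u

open CategoryTheory CategoryTheory.Limits AlgebraicGeometry TopologicalSpace IsLocalRing

attribute [local instance] HasDerivedCategory.standard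

namespace Groth.Agent.ThickPC

open Groth.Agent.KFlatLib Groth.Agent.H9Misc Groth.Agent.PerfGen7 Groth.Agent.PerfGen7.RelTor

section Ring

variable {A A' B B' : Type u} [CommRing A] [CommRing A'] [CommRing B] [CommRing B']
  {φ : A →+* A'} {π : A →+* B} {φ' : B →+* B'} {β : A' →+* B'}

/-- Quotients give pushouts. -/
lemma isPushout_of_surjective (w : φ'.comp π = β.comp φ) (hπ : Function.Surjective π)
    (hβ : Function.Surjective β) (hker : RingHom.ker β ≤ (RingHom.ker π).map φ) :
    IsPushout (CommRingCat.ofHom π) (CommRingCat.ofHom φ) (CommRingCat.ofHom φ') (CommRingCat.ofHom β) := by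
  haveI : Epi (CommRingCat.ofHom β) := ConcreteCategory.epi_of_surjective _ hβ
  have hw : CommRingCat.ofHom π ≫ CommRingCat.ofHom φ' = CommRingCat.ofHom φ ≫ CommRingCat.ofHom β :=
    CommRingCat.hom_ext w
  have hv : ∀ s : PushoutCocone (CommRingCat.ofHom π) (CommRingCat.ofHom φ),
      RingHom.ker β ≤ RingHom.ker s.inr.hom := fun s => hker.trans (Ideal.map_le_iff_le_comap.2 fun a ha => by
    rw [Ideal.mem_comap, RingHom.mem_ker]
    have h := RingHom.congr_fun (congrArg CommRingCat.Hom.hom s.condition) a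
    change s.inl.hom (π a) = s.inr.hom (φ a) at h
    rw [← h, ha, map_zero])
  refine ⟨⟨hw⟩, ⟨PushoutCocone.IsColimit.mk hw
    (fun s => CommRingCat.ofHom (β.liftOfSurjective hβ ⟨s.inr.hom, hv s⟩)) (fun s => ?_) (fun s => ?_)
    (fun s m h1 h2 => ?_)⟩⟩
  · refine CommRingCat.hom_ext (RingHom.ext fun b => ?_)
    obtain ⟨a, rfl⟩ := hπ b
    have h := RingHom.congr_fun (congrArg CommRingCat.Hom.hom s.condition) a
    refine Eq.trans ?_ h.symm
    show β.liftOfSurjective hβ ⟨s.inr.hom, hv s⟩ (φ' (π a)) = s.inr.hom (φ a)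
    rw [show φ' (π a) = β (φ a) from RingHom.congr_fun w a]
    exact RingHom.liftOfRightInverse_comp_apply _ _ _ _ _
  · exact CommRingCat.hom_ext (RingHom.liftOfRightInverse_comp _ _ _ _)
  · rw [← cancel_epi (CommRingCat.ofHom β), h2]
    exact (CommRingCat.hom_ext (RingHom.liftOfRightInverse_comp _ _ _ _)).symm

/-- Tor amplitude over the base descends along a nilpotent thickening of the base. -/
theorem torAmp_of_extend (h : IsPushout (CommRingCat.ofHom π) (CommRingCat.ofHom φ) (CommRingCat.ofHom φ') (CommRingCat.ofHom β))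
    (hφ : φ.Flat) (hπ : Function.Surjective π) (hnil : IsNilpotent (RingHom.ker π))
    {C : DRing.Cx A'} (hC : DRingLTensor.IsKF C) (b₀ : ℤ) (hb₀ : ∀ m, b₀ < m → IsZero (C.homology m)) (a b : ℤ)
    (hamp : DRing.HasTorAmplitudeIn B a b (DerivedCategory.Q.obj ((resCx φ').obj ((DRingLTensor.extC' β).obj C)))) :
    DRing.HasTorAmplitudeIn A a b (DerivedCategory.Q.obj ((resCx φ).obj C)) := by
  obtain ⟨R, ψ, hψ, hflat, hz⟩ := (ringCover A').exists_bounded_resolution C b₀ hb₀
  haveI : R.IsStrictlyLE b₀ := (CochainComplex.isStrictlyLE_iff _ _).2 hz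
  have hR : DRingLTensor.IsKF R := kFlat_of_isStrictlyLE b₀ fun n => flatObj_ringCover _ (hflat n)
  haveI := hψ
  have hflatA : DRing.TermwiseFlat ((resCx φ).obj R) := fun n => by
    letI := φ.toAlgebra
    letI : Module A (R.X n) := Module.compHom (R.X n) φ
    haveI : IsScalarTower A A' (R.X n) := .of_algebraMap_smul fun _ _ => rfl
    haveI : Module.Flat A A' := hφ
    haveI : Module.Flat A' (R.X n) := hflat n
    exact Module.Flat.trans A A' (R.X n)
  have hKA : DRingLTensor.IsKF ((resCx φ).obj R) :=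
    DRingTor.isKF_of_flat hflatA fun i hi => (ModuleCat.restrictScalars φ).map_isZero (hz i hi)
  haveI : IsIso (DerivedCategory.Q.map ψ) := (DerivedCategory.isIso_Q_map_iff_quasiIso _ _).2 inferInstance
  refine torAmp_of_iso (resQMapIso φ (asIso (DerivedCategory.Q.map ψ))) ?_
  haveI := DRingLBase.hasLBaseChange π
  refine (DRingNilp.amp_lbase_iff π hπ hnil _ a b).1 ?_
  obtain ⟨eL⟩ := DRingLBase.nonempty_lbase_iso π hKA
  obtain ⟨eP⟩ := nonempty_restrict_extend h R
  haveI : QuasiIso ((DRingLTensor.extC' β).map ψ) := KFlatLib.quasiIso_extendScalars β ψ hR hC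
  haveI : IsIso (DerivedCategory.Q.map ((DRingLTensor.extC' β).map ψ)) :=
    (DerivedCategory.isIso_Q_map_iff_quasiIso _ _).2 inferInstance
  exact torAmp_of_iso ((resQMapIso φ' (asIso (DerivedCategory.Q.map ((DRingLTensor.extC' β).map ψ)))).symm ≪≫
    (DerivedCategory.Q.mapIso eP).symm ≪≫ eL.symm) hamp

end Ring

variable {X X' Y Y' : Scheme.{u}} {f : X ⟶ Y} {f' : X' ⟶ Y'} {i : X ⟶ X'} {j : Y ⟶ Y'}

lemma apply_eq (sq : IsPullback i f f' j) (x : X) : f' (i x) = j (f x) := by
  rw [← Scheme.Hom.comp_apply, ← Scheme.Hom.comp_apply, sq.w]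

/-- The map of local rings of the bases. -/
noncomputable def baseπ (sq : IsPullback i f f' j) (x : X) :
    Y'.presheaf.stalk (f' (i x)) ⟶ Y.presheaf.stalk (f x) :=
  Y'.presheaf.stalkSpecializes (specializes_of_eq (apply_eq sq x).symm) ≫ j.stalkMap (f x)

lemma baseπ_comp (sq : IsPullback i f f' j) (x : X) :
    baseπ sq x ≫ f.stalkMap x = f'.stalkMap (i x) ≫ i.stalkMap x := by
  rw [baseπ, Category.assoc, ← Scheme.Hom.stalkMap_comp, ← Scheme.Hom.stalkMap_comp]
  rw [Scheme.Hom.stalkMap_congr_hom _ _ sq.w x]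
  rfl

lemma baseπ_surjective (sq : IsPullback i f f' j) [IsPreimmersion j] (x : X) :
    Function.Surjective (baseπ sq x).hom := by
  rw [baseπ, CommRingCat.hom_comp, RingHom.coe_comp]
  refine (j.stalkMap_surjective _).comp ?_
  haveI : IsIso (Y'.presheaf.stalkSpecializes (specializes_of_eq (apply_eq sq x).symm)) := by
    change IsIso (Y'.presheaf.stalkCongr (Inseparable.of_eq (apply_eq sq x))).hom
    infer_instance
  exact (ConcreteCategory.bijective_of_isIso _).2

lemma isNilpotent_ker_baseπ (sq : IsPullback i f f' j) (hj : StalkNil j) (x : X) :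
    IsNilpotent (RingHom.ker (baseπ sq x).hom) := by
  obtain ⟨N, hN⟩ := hj (f x)
  haveI : IsIso (Y'.presheaf.stalkSpecializes (specializes_of_eq (apply_eq sq x).symm)) := by
    change IsIso (Y'.presheaf.stalkCongr (Inseparable.of_eq (apply_eq sq x))).hom
    infer_instance
  let σ := (Y'.presheaf.stalkSpecializes (specializes_of_eq (apply_eq sq x).symm)).hom
  refine ⟨N, le_bot_iff.1 ?_⟩
  have hle : RingHom.ker (baseπ sq x).hom ≤ (RingHom.ker (j.stalkMap (f x)).hom).comap σ := le_of_eq (by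
    rw [RingHom.comap_ker]
    rfl)
  refine (Ideal.pow_right_mono hle N).trans ((Ideal.le_comap_pow _ N).trans ?_)
  rw [hN]
  intro a ha
  exact (map_eq_zero_iff σ (ConcreteCategory.bijective_of_isIso _).1).1 ha

lemma ker_stalkMap_le (sq : IsPullback i f f' j) [IsClosedImmersion i] [IsPreimmersion j] (x : X) :
    RingHom.ker (i.stalkMap x).hom ≤ (RingHom.ker (baseπ sq x).hom).map (f'.stalkMap (i x)).hom := by
  let I := (RingHom.ker (baseπ sq x).hom).map (f'.stalkMap (i x)).hom
  by_cases hI : I = ⊤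
  · exact le_top.trans hI.ge
  let R : CommRingCat.{u} := CommRingCat.of (X'.presheaf.stalk (i x) ⧸ I)
  haveI : Nontrivial R := Ideal.Quotient.nontrivial_iff.2 hI
  haveI : IsLocalRing R := IsLocalRing.of_surjective' _ (Ideal.Quotient.mk_surjective (I := I))
  let π : X'.presheaf.stalk (i x) ⟶ R := CommRingCat.ofHom (Ideal.Quotient.mk I)
  haveI hπ : IsLocalHom π.hom := IsLocalHom.of_surjective _ Ideal.Quotient.mk_surjective
  have hsurj := baseπ_surjective sq x
  let ψ : Y.presheaf.stalk (f x) ⟶ R := CommRingCat.ofHom ((baseπ sq x).hom.liftOfSurjective hsurj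
    ⟨(Ideal.Quotient.mk I).comp (f'.stalkMap (i x)).hom, fun a ha =>
      Ideal.Quotient.eq_zero_iff_mem.2 (Ideal.mem_map_of_mem _ ha)⟩)
  have hψ : baseπ sq x ≫ ψ = f'.stalkMap (i x) ≫ π :=
    CommRingCat.hom_ext (RingHom.liftOfRightInverse_comp _ _ _ _)
  let a : Spec R ⟶ X' := Spec.map π ≫ X'.fromSpecStalk (i x)
  let b : Spec R ⟶ Y := Spec.map ψ ≫ Y.fromSpecStalk (f x)
  have hab : a ≫ f' = b ≫ j := by
    simp only [a, b, Category.assoc, ← Scheme.SpecMap_stalkMap_fromSpecStalk]
    rw [← Scheme.SpecMap_stalkSpecializes_fromSpecStalk (specializes_of_eq (apply_eq sq x).symm)]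
    simp only [← Category.assoc, ← Spec.map_comp]
    rw [← hψ, baseπ]
  let l : Spec R ⟶ X := sq.lift a b hab
  have hl : l ≫ i = a := sq.lift_fst a b hab
  have hlz : l (closedPoint R) = x := by
    apply i.isClosedEmbedding.injective
    rw [← Scheme.Hom.comp_apply, hl]
    show X'.fromSpecStalk (i x) (Spec.map π (closedPoint R)) = i x
    rw [show Spec.map π (closedPoint R) = closedPoint (X'.presheaf.stalk (i x)) from comap_closedPoint π.hom,
      Scheme.fromSpecStalk_closedPoint]
  obtain ⟨χ, hχ⟩ := H23.GysinPb.exists_fromSpecStalk l hlz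
  have h1 : Spec.map (i.stalkMap x ≫ χ) = Spec.map π := by
    rw [← cancel_mono (X'.fromSpecStalk (i x)), Spec.map_comp, Category.assoc,
      Scheme.SpecMap_stalkMap_fromSpecStalk, ← Category.assoc, ← hχ, hl]
  intro t ht
  refine Ideal.Quotient.eq_zero_iff_mem.1 ?_
  have h2 := congrArg (fun g : X'.presheaf.stalk (i x) ⟶ R => g.hom t) (Spec.map_injective h1)
  refine h2.symm.trans ?_
  show χ.hom ((i.stalkMap x).hom t) = 0
  rw [show (i.stalkMap x).hom t = 0 from ht, map_zero]

/-- Tor amplitude relative to the base, at a point of a thickening. -/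
theorem torAmplitudeAt_of_lpull (sq : IsPullback i f f' j) [Flat f'] [IsClosedImmersion i] [IsPreimmersion j]
    (hj : StalkNil j) [DCoh.HasLpull i] (E : DCoh.D X') {F : CochainComplex X'.Modules ℤ}
    (eF : DCoh.toD X' F ≅ E) {F₀ : CochainComplex X.Modules ℤ}
    (e₀ : DCoh.toD X F₀ ≅ (DCoh.Lpull i).obj E) (x : X) (b₀ : ℤ)
    (hb₀ : ∀ m, b₀ < m → IsZero ((DerSch.stalkFunctor X' (i.base x)).obj (DCoh.HD E m))) {a b : ℤ}
    (h : DerSch.HasTorAmplitudeAt f a b F₀ x) : DerSch.HasTorAmplitudeAt f' a b F (i.base x) := by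
  refine torAmplitudeAt_congr f' (repKIso E ≪≫ eF.symm) ?_
  have h₀ := torAmp_of_iso (DerivedCategory.Q.mapIso (stalkCxOverIso f x ((pullCx i).obj (repK E)) ≪≫
      (resCx _).mapIso (stalkPullCxIso i x (repK E))))
    (torAmplitudeAt_congr f (e₀ ≪≫ (lpullRepIso i E).symm) h)
  refine torAmp_of_iso (DerivedCategory.Q.mapIso (stalkCxOverIso f' (i.base x) (repK E)).symm) ?_
  exact torAmp_of_extend (π := (baseπ sq x).hom) (β := (i.stalkMap x).hom)
    (isPushout_of_surjective (congrArg CommRingCat.Hom.hom (baseπ_comp sq x)) (baseπ_surjective sq x)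
      (i.stalkMap_surjective x) (ker_stalkMap_le sq x))
    (Flat.stalkMap f' (i x)) (baseπ_surjective sq x) (isNilpotent_ker_baseπ sq hj x) (isKF_stalk E _) b₀
    (fun m hm => (hb₀ m hm).of_iso (hdStalkIso (repKIso E) _ m).symm) a b h₀

end Groth.Agent.ThickPC
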