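import Groth.Agent.PerfGen7.LocalFibre
import Groth.Agent.PerfGen7.RelPerfectFibres
import Groth.Agent.PerfGen7.TorAmpTilde

/-!
# Tor amplitude at a prime over a closed subscheme of the base
-/

set_option linter.style.haveILetI false
set_option backward.isDefEq.respectTransparency false
set_option backward.isDefEq.respectTransparency.types false

universe u

open CategoryTheory CategoryTheory.Limits MonoidalCategory

attribute [local instance] HasDerivedCategory.standard

namespace Groth.Agent.ThickPC

open Groth.Agent.KFlatLib Groth.Agent.H9Misc Groth.Agent.H9Misc.DRingLTensor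
  Groth.Agent.PerfGen7 Groth.Agent.PerfGen7.RelTor

variable {R R₀ A A₀ : Type u} [CommRing R] [CommRing R₀] [CommRing A] [CommRing A₀] [Algebra R A]

/-- Exactness survives a flat extension of scalars. -/
lemma exactAt_extC_of_flat {B C : Type u} [CommRing B] [CommRing C] {γ : B →+* C} (hγ : γ.Flat) {G : DRing.Cx B}
    {i : ℤ} (h : G.ExactAt i) : ((extC' γ).obj G).ExactAt i := by
  haveI := ModuleCat.preservesFiniteLimits_extendScalars_of_flat hγ
  haveI : PreservesFiniteColimits (ModuleCat.extendScalars.{u, u, u} γ) := by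
    haveI : (ModuleCat.extendScalars.{u, u, u} γ).IsLeftAdjoint :=
      (ModuleCat.extendRestrictScalarsAdj γ).isLeftAdjoint
    infer_instance
  exact h.map (ModuleCat.extendScalars γ)

/-- Amplitude at a prime of the special fibre, from amplitude of the reduction. -/
theorem amp_at_prime_of_reduction [Module.Flat R A] [Algebra.FinitePresentation R A] {π : R →+* R₀}
    {φ₀ : R₀ →+* A₀} {β : A →+* A₀}
    (hpo : IsPushout (CommRingCat.ofHom π) (CommRingCat.ofHom (algebraMap R A)) (CommRingCat.ofHom φ₀)
      (CommRingCat.ofHom β))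
    (hπ : Function.Surjective π) (d : ℕ) (ψ : MvPolynomial (Fin d) R →ₐ[R] A) (hψ : Function.Surjective ψ)
    (M : Dual.D A) (hM : DRing.IsPseudoCoherent' A M) [DRing.HasLBaseChange β] (a b : ℤ)
    (hamp : DRing.HasTorAmplitudeIn R₀ a b ((DRing.restrictD φ₀).obj ((DRing.LBaseChange β).obj M)))
    (q : Ideal A) [q.IsPrime] [DRing.HasLBaseChange (algebraMap A (Localization.AtPrime q))]
    (hq : RingHom.ker π ≤ q.comap (algebraMap R A)) :
    DRing.HasTorAmplitudeIn R (a - d) b
      ((DRing.restrictD (algebraMap R (Localization.AtPrime q))).obj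
        ((DRing.LBaseChange (algebraMap A (Localization.AtPrime q))).obj M)) := by
  let p : Ideal R := q.comap (algebraMap R A)
  haveI : p.IsPrime := Ideal.comap_isPrime _ q
  obtain ⟨C, bC, hCz, hCf, ⟨eC⟩⟩ := id hM
  have hC : IsKF C := DRingFibre.isKF hCf hCz
  have hφ : (algebraMap R A).Flat := RingHom.flat_algebraMap_iff.2 inferInstance
  let G := (resCx (algebraMap R A)).obj C
  have hG : IsKF G := DRingTor.isKF_of_flat (FibreRegular.termwiseFlat_res hφ hCf)
    fun i hi => (ModuleCat.restrictScalars _).map_isZero (hCz i hi)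
  haveI := DRingLBase.hasLBaseChange π
  -- the reduction
  obtain ⟨eβ⟩ := DRingLBase.nonempty_lbase_iso β hC
  obtain ⟨eP⟩ := nonempty_restrict_extend hpo C
  have h0 : DRing.HasTorAmplitudeIn R₀ a b (DerivedCategory.Q.obj ((extC' π).obj G)) :=
    torAmp_of_iso ((DRing.restrictD φ₀).mapIso ((DRing.LBaseChange β).mapIso eC.symm ≪≫ eβ) ≪≫
      (ModuleCat.restrictScalars φ₀).mapDerivedCategoryFactors.app _ ≪≫ (DerivedCategory.Q.mapIso eP).symm) hamp
  let k := p.ResidueField
  let ρ : R₀ →+* k := π.liftOfSurjective hπ ⟨algebraMap R k, fun r hr => by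
    rw [RingHom.mem_ker, IsScalarTower.algebraMap_apply R (R ⧸ p) k,
      Ideal.Quotient.algebraMap_eq, Ideal.Quotient.eq_zero_iff_mem.2 (hq hr), map_zero]⟩
  have hρ : ρ.comp π = algebraMap R k := RingHom.liftOfRightInverse_comp _ _ _ _
  haveI := DRingLBase.hasLBaseChange ρ
  have hk : ∀ i : ℤ, i < a ∨ b < i → ((extC' (algebraMap R k)).obj G).ExactAt i := fun i hi => by
    have h1 := DRingLBase.hasTorAmplitudeIn_lbase ρ h0
    obtain ⟨eρ⟩ := DRingLBase.nonempty_lbase_iso ρ (KFlatLib.kFlat_extendScalars π hG)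
    exact (DRingFibre.exactAt_extC_comp π ρ (algebraMap R k) hρ.symm i).1
      (((DRingTor.iff_van (KFlatLib.kFlat_extendScalars ρ (KFlatLib.kFlat_extendScalars π hG)) eρ.symm).1 h1).exactAt hi)
  -- localisation at the prime
  letI : Algebra R (TensorProduct R k A) := inferInstance
  let B' := TensorProduct R k A
  let β' : A →+* B' := (Algebra.TensorProduct.includeRight (R := R) (A := k) (B := A)).toRingHom
  have h1 := CommRingCat.isPushout_tensorProduct R k A
  let C' := Localization (Submonoid.map β' q.primeCompl)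
  let Aq := Localization.AtPrime q
  let βq : Aq →+* C' := IsLocalization.map (M := q.primeCompl) (T := Submonoid.map β' q.primeCompl) C' β'
    (Submonoid.le_comap_map _)
  have hβq : βq.comp (algebraMap A Aq) = (algebraMap B' C').comp β' :=
    RingHom.ext fun x => IsLocalization.map_eq (M := q.primeCompl) (T := Submonoid.map β' q.primeCompl)
      (S := Aq) (Q := C') (Submonoid.le_comap_map _) x
  have h2 := CommRingCat.isPushout_of_isLocalization β' βq hβq q.primeCompl
  have h3 := h1.paste_vert h2
  have hRq : CommRingCat.ofHom (algebraMap R A) ≫ CommRingCat.ofHom (algebraMap A Aq) =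
      CommRingCat.ofHom (algebraMap R Aq) := by
    rw [← CommRingCat.ofHom_comp, ← IsScalarTower.algebraMap_eq]
  rw [hRq, ← CommRingCat.ofHom_comp] at h3
  let Eq := (extC' (algebraMap A Aq)).obj C
  have hk2 : ∀ i : ℤ, i < a ∨ b < i →
      ((extC' (algebraMap R k)).obj ((resCx (algebraMap R Aq)).obj Eq)).ExactAt i := fun i hi => by
    refine (FibreRegular.exactAt_fibre_iff h3 Eq i).2 ?_
    have h5 : ((extC' β').obj C).ExactAt i := (FibreRegular.exactAt_fibre_iff h1 C i).1 (hk i hi)
    have h6 := exactAt_extC_of_flat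
      (RingHom.flat_algebraMap_iff.2 (IsLocalization.flat C' (Submonoid.map β' q.primeCompl))) h5
    exact (DRingTorLTensor.exactAt_iff_of_iso
      ((TorAmpBC.extCompIso (rfl : (algebraMap B' C').comp β' = _) C).symm ≪≫
        TorAmpBC.extCompIso hβq C) i).1 h6
  -- the fibre over the localised base
  let Rp := Localization.AtPrime p
  let σ : Rp →+* Aq := Localization.localRingHom p q (algebraMap R A) rfl
  have hσR : σ.comp (algebraMap R Rp) = algebraMap R Aq := RingHom.ext fun x =>
    (Localization.localRingHom_to_map p q _ rfl x).trans (IsScalarTower.algebraMap_apply R A Aq x).symm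
  haveI : Module.Flat R Aq := Module.Flat.trans R A Aq
  have hσ : σ.Flat := LocalFibre.flat_of_comp_localization p.primeCompl σ hσR
  let G0 : DRing.Cx Rp := (resCx σ).obj Eq
  have hG0 : IsKF G0 := DRingTor.isKF_of_flat (FibreRegular.termwiseFlat_res hσ
      fun j => DRingRestrict.finFree_extendScalars _ _ (hCf j).1 (hCf j).2)
    fun j hj => (ModuleCat.restrictScalars σ).map_isZero ((ModuleCat.extendScalars _).map_isZero (hCz j hj))
  haveI : DRing.HasLTensor Rp (ModuleCat.of Rp k) := DRingTor.hasLTensor _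
  obtain ⟨eq'⟩ := DRingLBase.nonempty_lbase_iso (algebraMap A Aq) hC
  let eK : DerivedCategory.Q.obj G0 ≅ (DRing.restrictD σ).obj ((DRing.LBaseChange (algebraMap A Aq)).obj M) :=
    ((ModuleCat.restrictScalars σ).mapDerivedCategoryFactors.app Eq).symm ≪≫
      (DRing.restrictD σ).mapIso (eq'.symm ≪≫ (DRing.LBaseChange _).mapIso eC)
  refine LocalFibre.amp_at_prime d ψ hψ q p rfl M hM a b fun i hi => ?_
  refine (DRingTor.exactAt_tensC_iff (ModuleCat.of Rp k) hG0 eK i).2
    ((RelPerfectFibres.exactAt_tensC_iff_extC G0 i).2 ?_)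
  obtain ⟨er⟩ := TorAmpBC.nonempty_ext_res (Q := Rp) p.primeCompl G0
  refine (DRingTorLTensor.exactAt_iff_of_iso ?_ i).1 (hk2 i hi)
  exact (extC' (algebraMap R k)).mapIso (TorAmpBC.resCompIso hσR Eq) ≪≫
    TorAmpBC.extCompIso (IsScalarTower.algebraMap_eq R Rp k).symm _ ≪≫
    (extC' (algebraMap Rp k)).mapIso er

end Groth.Agent.ThickPC
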