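import Groth.Agent.H9Misc.DRingNilpPC

/-!
# Top degree of a K-flat complex along an extension of scalars
-/

set_option linter.style.haveILetI false

universe u

open CategoryTheory CategoryTheory.Category CategoryTheory.Limits MonoidalCategory

attribute [local instance] HasDerivedCategory.standard

namespace Groth.Agent.ThickPC

open Groth.Agent.KFlatLib Groth.Agent.H9Misc DRingLTensor DRingTor

variable {A B : Type u} [CommRing A] [CommRing B] (φ : A →+* B)
  {C : CochainComplex (ModuleCat.{u} A) ℤ} (hC : IsKF C)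

include hC

lemma isZero_homology_extC (b : ℤ) (h : ∀ m, b < m → IsZero (C.homology m)) (i : ℤ) (hi : b < i) :
    IsZero (((extC' φ).obj C).homology i) := by
  obtain ⟨R, ψ, hψ, hR, hz⟩ := DRingRightExact.exists_bounded_rep C b h
  haveI := hψ
  haveI : QuasiIso ((extC' φ).map ψ) := quasiIso_extendScalars φ ψ hR hC
  exact (ShortComplex.isZero_homology_of_isZero_X₂ _
    ((ModuleCat.extendScalars.{u, u, u} φ).map_isZero (hz i hi))).of_iso
      (isoOfQuasiIsoAt ((extC' φ).map ψ) i).symm

/-- Nakayama for the top cohomology. -/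
lemma finite_homology_of_extC (hφ : Function.Surjective φ) (hnil : IsNilpotent (RingHom.ker φ)) (b : ℤ)
    (h : ∀ m, b < m → IsZero (C.homology m)) (hB : Module.Finite B (((extC' φ).obj C).homology b)) :
    Module.Finite A (C.homology b) := by
  obtain ⟨R, ψ, hψ, hR, hz⟩ := DRingRightExact.exists_bounded_rep C b h
  haveI := hψ
  haveI : QuasiIso ((extC' φ).map ψ) := quasiIso_extendScalars φ ψ hR hC
  let F := ModuleCat.extendScalars.{u, u, u} φ
  let R' := (extC' φ).obj R
  haveI hιR : IsIso (R.homologyι b) :=
    HomologicalComplex.isIso_homologyι R b (b + 1) (by simp) ((hz (b + 1) (by omega)).eq_of_tgt _ _)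
  haveI hιR' : IsIso (R'.homologyι b) :=
    HomologicalComplex.isIso_homologyι R' b (b + 1) (by simp)
      ((F.map_isZero (hz (b + 1) (by omega))).eq_of_tgt _ _)
  have hfin : Module.Finite A (R.opcycles b) := by
    refine DRingNilp.finite_of_extendScalars φ hφ hnil _ ?_
    haveI := hB
    haveI : Module.Finite B (R'.opcycles b) := Module.Finite.equiv
      ((isoOfQuasiIsoAt ((extC' φ).map ψ) b).symm ≪≫ asIso (R'.homologyι b)).toLinearEquiv
    haveI : F.IsLeftAdjoint := (ModuleCat.extendRestrictScalarsAdj φ).isLeftAdjoint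
    let q : R'.opcycles b ⟶ F.obj (R.opcycles b) := R'.descOpcycles (F.map (R.pOpcycles b)) (b - 1) (by simp) (by
      show F.map (R.d (b - 1) b) ≫ F.map (R.pOpcycles b) = 0
      rw [← F.map_comp, R.d_pOpcycles, F.map_zero])
    have hFp : Epi (F.map (R.pOpcycles b)) := F.map_epi (R.pOpcycles b)
    haveI : Epi (R'.pOpcycles b ≫ q) := by
      dsimp only [q]
      erw [HomologicalComplex.p_descOpcycles]
      exact hFp
    haveI : Epi q := epi_of_epi (R'.pOpcycles b) q
    exact Module.Finite.of_surjective q.hom ((ModuleCat.epi_iff_surjective q).1 inferInstance)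
  exact Module.Finite.equiv ((asIso (R.homologyι b)).symm ≪≫ isoOfQuasiIsoAt ψ b).toLinearEquiv

end Groth.Agent.ThickPC
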