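import Groth.Agent.ThickPC.Ring
import Groth.Agent.KFlatLib.Perfect.Top
import Groth.Agent.KFlatLib.Scheme.PullTensorCx

/-!
# Stalks along a nilpotent thickening
-/

set_option linter.style.haveILetI false
set_option backward.isDefEq.respectTransparency false
set_option backward.isDefEq.respectTransparency.types false

universe u

open CategoryTheory CategoryTheory.Limits AlgebraicGeometry TopologicalSpace

attribute [local instance] HasDerivedCategory.standard

namespace Groth.Agent.ThickPC

open Groth.Agent.KFlatLib Groth.Agent.H9Misc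

variable {X Y : Scheme.{u}}

/-- A closed immersion with nilpotent ideal has nilpotent kernels on stalks. -/
theorem isNilpotent_ker_stalkMap (i : X ⟶ Y) [IsClosedImmersion i] (hn : IsNilpotent i.ker) (y : X) :
    IsNilpotent (RingHom.ker (i.stalkMap y).hom) := by
  obtain ⟨N, hN⟩ := hn
  refine ⟨N, le_bot_iff.1 fun a ha => ?_⟩
  have key : ∀ (k : ℕ), ∀ a ∈ RingHom.ker (i.stalkMap y).hom ^ k, ∃ (D : Y.affineOpens) (h : i y ∈ D.1)
      (r : Γ(Y, D.1)), r ∈ i.ker.ideal D ^ k ∧ Y.presheaf.germ D.1 (i y) h r = a := by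
    intro k
    induction k with
    | zero =>
      intro a _
      obtain ⟨U, hU, s, rfl⟩ := Y.presheaf.exists_germ_eq (x := i y) a
      obtain ⟨D, hD, hyD, hDU⟩ := exists_isAffineOpen_mem_and_subset (x := i y) (U := U) hU
      refine ⟨⟨D, hD⟩, hyD, Y.presheaf.map (homOfLE hDU).op s, by simp [Ideal.one_eq_top], ?_⟩
      exact Y.presheaf.germ_res_apply (homOfLE hDU) (i y) hyD s
    | succ k ih =>
      intro a ha
      rw [pow_succ] at ha
      refine Submodule.mul_induction_on ha (fun b hb c hc => ?_) fun b c hb hc => ?_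
      · obtain ⟨D, hD, r, hr, rfl⟩ := ih b hb
        obtain ⟨U, hU, s, rfl⟩ := Y.presheaf.exists_germ_eq (x := i y) c
        rw [RingHom.mem_ker, Scheme.Hom.germ_stalkMap_apply i U y hU s, ← map_zero (X.presheaf.germ (i ⁻¹ᵁ U) y hU).hom] at hc
        obtain ⟨O, hO, j₁, j₂, hj⟩ := X.presheaf.germ_eq y hU hU _ _ hc
        obtain ⟨O', hO', rfl⟩ : ∃ O' : Y.Opens, True ∧ i ⁻¹ᵁ O' = O := by
          obtain ⟨S, hS, hS'⟩ := i.isClosedEmbedding.isInducing.isOpen_iff.1 O.2
          exact ⟨⟨S, hS⟩, trivial, Opens.ext hS'⟩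
        obtain ⟨D', hD', hyD', hle⟩ := exists_isAffineOpen_mem_and_subset (x := i y) (U := D.1 ⊓ (U ⊓ O'))
          ⟨hD, hU, hO⟩
        have l₁ : D' ≤ D.1 := fun z hz => (hle hz).1
        have l₂ : D' ≤ U := fun z hz => (hle hz).2.1
        have l₃ : D' ≤ O' := fun z hz => (hle hz).2.2
        refine ⟨⟨D', hD'⟩, hyD', Y.presheaf.map (homOfLE l₁).op r * Y.presheaf.map (homOfLE l₂).op s, ?_, ?_⟩
        · rw [pow_succ]
          refine Ideal.mul_mem_mul ?_ ?_
          · have := Ideal.mem_map_of_mem (Y.presheaf.map (homOfLE l₁).op).hom hr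
            rw [Ideal.map_pow] at this
            exact SetLike.le_def.1 (le_of_eq (congrArg (· ^ k) (i.ker.map_ideal (U := ⟨D', hD'⟩) (V := D) l₁))) this
          · rw [Scheme.Hom.ker_apply, RingHom.mem_ker]
            have h' := congrArg (X.presheaf.map (homOfLE (i.preimage_mono l₃)).op) hj
            rw [map_zero, map_zero, ← CommRingCat.comp_apply, ← X.presheaf.map_comp] at h'
            rw [← CommRingCat.comp_apply, i.naturality, CommRingCat.comp_apply]
            exact h'
        · rw [map_mul]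
          exact congrArg₂ (· * ·) (Y.presheaf.germ_res_apply (homOfLE l₁) (i y) hyD' r)
            (Y.presheaf.germ_res_apply (homOfLE l₂) (i y) hyD' s)
      · obtain ⟨D, hD, r, hr, rfl⟩ := hb
        obtain ⟨D₂, hD₂, r₂, hr₂, rfl⟩ := hc
        obtain ⟨D', hD', hyD', hle⟩ := exists_isAffineOpen_mem_and_subset (x := i y) (U := D.1 ⊓ D₂.1) ⟨hD, hD₂⟩
        have l₁ : D' ≤ D.1 := fun z hz => (hle hz).1
        have l₂ : D' ≤ D₂.1 := fun z hz => (hle hz).2
        refine ⟨⟨D', hD'⟩, hyD', Y.presheaf.map (homOfLE l₁).op r + Y.presheaf.map (homOfLE l₂).op r₂, ?_, ?_⟩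
        · refine Ideal.add_mem _ ?_ ?_
          · have := Ideal.mem_map_of_mem (Y.presheaf.map (homOfLE l₁).op).hom hr
            rw [Ideal.map_pow] at this
            exact SetLike.le_def.1 (le_of_eq (congrArg (· ^ (k + 1)) (i.ker.map_ideal (U := ⟨D', hD'⟩) (V := D) l₁))) this
          · have := Ideal.mem_map_of_mem (Y.presheaf.map (homOfLE l₂).op).hom hr₂
            rw [Ideal.map_pow] at this
            exact SetLike.le_def.1 (le_of_eq (congrArg (· ^ (k + 1)) (i.ker.map_ideal (U := ⟨D', hD'⟩) (V := D₂) l₂))) this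
        · rw [map_add]
          exact congrArg₂ (· + ·) (Y.presheaf.germ_res_apply (homOfLE l₁) (i y) hyD' r)
            (Y.presheaf.germ_res_apply (homOfLE l₂) (i y) hyD' r₂)
  obtain ⟨D, hD, r, hr, rfl⟩ := key N a ha
  have hr0 : i.ker.ideal D ^ N = ⊥ := by
    have := congrArg (fun I : Y.IdealSheafData => I.ideal D) hN
    simpa using this
  rw [hr0, Ideal.mem_bot] at hr
  rw [hr, map_zero]
  exact Submodule.zero_mem _

/-- Nilpotent kernels on stalks. -/
def StalkNil (i : X ⟶ Y) : Prop := ∀ y, IsNilpotent (RingHom.ker (i.stalkMap y).hom)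

lemma StalkNil.restrict {i : X ⟶ Y} (h : StalkNil i) (W : Y.Opens) : StalkNil (i ∣_ W) := fun y => by
  let e := morphismRestrictStalkMap i W y
  obtain ⟨N, hN⟩ := h y.1
  refine ⟨N, le_bot_iff.1 ?_⟩
  have hle : RingHom.ker ((i ∣_ W).stalkMap y).hom ≤
      (RingHom.ker (i.stalkMap y.1).hom).comap e.hom.left.hom := fun a ha => by
    rw [Ideal.mem_comap, RingHom.mem_ker] at *
    have := RingHom.congr_fun (congrArg CommRingCat.Hom.hom e.hom.w) a
    change (i.stalkMap y.1) (e.hom.left a) = e.hom.right (((i ∣_ W).stalkMap y) a) at this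
    exact this.trans ((congrArg e.hom.right ha).trans (map_zero _))
  refine (Ideal.pow_right_mono hle N).trans ((Ideal.le_comap_pow _ N).trans ?_)
  rw [hN]
  intro a ha
  exact (map_eq_zero_iff e.hom.left.hom (ConcreteCategory.bijective_of_isIso e.hom.left).1).1 ha

/-- Stalks of cohomology sheaves. -/
noncomputable def stalkHomologyIso (x : X) (F : CochainComplex X.Modules ℤ) (j : ℤ) :
    ((stalkCx x).obj F).homology j ≅ (DerSch.stalkFunctor X x).obj (F.homology j) :=
  (F.sc j).mapHomologyIso (DerSch.stalkFunctor X x)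

/-- The cohomology of a represented object. -/
noncomputable def hdRepIso {K : DCoh.D X} {P : CochainComplex X.Modules ℤ} (e : DCoh.toD X P ≅ K) (j : ℤ) :
    DCoh.HD K j ≅ P.homology j :=
  (DerivedCategory.homologyFunctor X.Modules j).mapIso e.symm ≪≫
    (DerivedCategory.homologyFunctorFactors X.Modules j).app P

/-- The stalk of a cohomology sheaf of a represented object. -/
noncomputable def hdStalkIso {K : DCoh.D X} {P : CochainComplex X.Modules ℤ} (e : DCoh.toD X P ≅ K) (x : X)
    (j : ℤ) : (DerSch.stalkFunctor X x).obj (DCoh.HD K j) ≅ ((stalkCx x).obj P).homology j :=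
  (DerSch.stalkFunctor X x).mapIso (hdRepIso e j) ≪≫ (stalkHomologyIso x P j).symm

/-- The stalk of the cohomology of a derived pullback. -/
noncomputable def lpullStalkIso (i : X ⟶ Y) [DCoh.HasLpull i] (K : DCoh.D Y) (y : X) (j : ℤ) :
    (DerSch.stalkFunctor X y).obj (DCoh.HD ((DCoh.Lpull i).obj K) j) ≅
      ((DRingLTensor.extC' (i.stalkMap y).hom).obj ((stalkCx (i.base y)).obj (repK K))).homology j :=
  hdStalkIso (lpullRepIso i K) y j ≪≫
    (HomologicalComplex.homologyFunctor _ _ j).mapIso (stalkPullCxIso i y (repK K))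

lemma isKF_stalk (K : DCoh.D X) (x : X) : DRingLTensor.IsKF ((stalkCx x).obj (repK K)) :=
  (kFlat_iff_stalk _).1 (isKFlat_repK K) x

lemma flat_stalk (K : DCoh.D X) (x : X) (n : ℤ) :
    Module.Flat (X.presheaf.stalk x) (((stalkCx x).obj (repK K)).X n : Type u) :=
  isFlat_kRes _ n x

variable {i : X ⟶ Y} [IsPreimmersion i] [DCoh.HasLpull i] {K : DCoh.D Y} {b : ℤ} {y : X}

/-- Vanishing descends. -/
lemma isZero_stalk_of_lpull (hi : StalkNil i)
    (h : ∀ j, b < j → IsZero ((DerSch.stalkFunctor X y).obj (DCoh.HD ((DCoh.Lpull i).obj K) j))) (j : ℤ)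
    (hj : b < j) : IsZero ((DerSch.stalkFunctor Y (i.base y)).obj (DCoh.HD K j)) :=
  (DRingNilp.isZero_homology_of_lbase (i.stalkMap y).hom (i.stalkMap_surjective y) (hi y)
    (isKF_stalk K _) (flat_stalk K _) b (fun m hm => (h m hm).of_iso (lpullStalkIso i K y m).symm) j hj).of_iso
    (hdStalkIso (repKIso K) _ j)

omit [IsPreimmersion i] in
/-- Vanishing ascends. -/
lemma isZero_stalk_lpull
    (h : ∀ j, b < j → IsZero ((DerSch.stalkFunctor Y (i.base y)).obj (DCoh.HD K j))) (j : ℤ) (hj : b < j) :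
    IsZero ((DerSch.stalkFunctor X y).obj (DCoh.HD ((DCoh.Lpull i).obj K) j)) :=
  (isZero_homology_extC _ (isKF_stalk K _) b
    (fun m hm => (h m hm).of_iso (hdStalkIso (repKIso K) _ m).symm) j hj).of_iso (lpullStalkIso i K y j)

/-- Finiteness descends in the top degree. -/
lemma finite_stalk_of_lpull (hi : StalkNil i)
    (h : ∀ j, b < j → IsZero ((DerSch.stalkFunctor Y (i.base y)).obj (DCoh.HD K j)))
    (hfin : Module.Finite (X.presheaf.stalk y)
      ((DerSch.stalkFunctor X y).obj (DCoh.HD ((DCoh.Lpull i).obj K) b) : Type u)) :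
    Module.Finite (Y.presheaf.stalk (i.base y))
      ((DerSch.stalkFunctor Y (i.base y)).obj (DCoh.HD K b) : Type u) := by
  haveI := hfin
  haveI := finite_homology_of_extC (i.stalkMap y).hom (isKF_stalk K (i.base y)) (i.stalkMap_surjective y) (hi y) b
    (fun m hm => (h m hm).of_iso (hdStalkIso (repKIso K) _ m).symm)
    (Module.Finite.equiv (lpullStalkIso i K y b).toLinearEquiv)
  exact Module.Finite.equiv (hdStalkIso (repKIso K) (i.base y) b).toLinearEquiv.symm

end Groth.Agent.ThickPC
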